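import Groth.Agent.VanishAbs28.Chart
import Groth.Agent.Vanish28.Locus
import Groth.Agent.Misc15.ClosedDescent
import Mathlib.AlgebraicGeometry.Morphisms.Proper

/-!
# The vanishing locus of a map into a flat finitely presented module on a proper family
-/

set_option autoImplicit false
set_option backward.isDefEq.respectTransparency false

universe u

open CategoryTheory CategoryTheory.Limits AlgebraicGeometry Opposite TopologicalSpace TensorProduct
open Groth.Agent Groth.Agent.Vanish28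

namespace Groth.Agent.VanishAbs28

variable {Y S : Scheme.{u}} {q : Y ⟶ S} (P : VanPred q)

/-- The condition on base changes. -/
def PE (T : Scheme.{u}) (g : T ⟶ S) : Prop := P.E _ (pullback.fst q g)

theorem pe_comp (T T' : Scheme.{u}) (t : T' ⟶ T) (g : T ⟶ S) (h : PE P T g) : PE P T' (t ≫ g) := by
  have := P.comp _ _ (pullback.lift (pullback.fst q (t ≫ g)) (pullback.snd q (t ≫ g) ≫ t)
    (by simp [pullback.condition])) _ h
  rwa [pullback.lift_fst] at this

theorem pe_flat_cover {T : Scheme.{u}} (g : T ⟶ S) {ι : Type u}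
    (Ti : ι → Scheme.{u}) (t : ∀ i, Ti i ⟶ T) [∀ i, Flat (t i)]
    (hsurj : ∀ x : T, ∃ (i : ι) (z : Ti i), t i z = x) (h : ∀ i, PE P (Ti i) (t i ≫ g)) :
    PE P T g := by
  let d : ∀ i, pullback q (t i ≫ g) ⟶ pullback q g := fun i =>
    pullback.lift (pullback.fst _ _) (pullback.snd _ _ ≫ t i) (by simp [pullback.condition])
  have hsq : ∀ i, IsPullback (d i) (pullback.snd q (t i ≫ g)) (pullback.snd q g) (t i) := fun i => by
    refine IsPullback.of_right ?_ (pullback.lift_snd _ _ _) (IsPullback.of_hasPullback q g)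
    rw [pullback.lift_fst]
    exact IsPullback.of_hasPullback q (t i ≫ g)
  refine P.desc T g ι _ d (fun i => MorphismProperty.of_isPullback (hsq i).flip inferInstance)
    (fun x => ?_) fun i => ?_
  · obtain ⟨i, z, hz⟩ := hsurj (pullback.snd q g x)
    obtain ⟨w, hw, -⟩ := Scheme.Pullback.exists_preimage_pullback x z hz.symm
    exact ⟨i, (hsq i).isoPullback.inv w, by
      rw [← Scheme.Hom.comp_apply, IsPullback.isoPullback_inv_fst]; exact hw⟩
  · rw [pullback.lift_fst]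
    exact h i

set_option maxHeartbeats 800000 in
/-- Etale locally on the base, the vanishing functor is cut out by an ideal. -/
theorem exists_etale_ideal [IsProper q] [LocallyOfFinitePresentation q] (s : S) :
    ∃ (R' : CommRingCat.{u}) (b : Spec R' ⟶ S) (J : Ideal R'), Etale b ∧ s ∈ Set.range b ∧
      ∀ (C : CommRingCat.{u}) (ψ : R' ⟶ C),
        PE P (Spec C) (Spec.map ψ ≫ b) ↔ J ≤ RingHom.ker ψ.hom := by
  classical
  obtain ⟨W, hW, hsW, -⟩ := exists_isAffineOpen_mem_and_subset (U := ⊤) (x := s) trivial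
  let p := hW.primeIdealOf ⟨s, hsW⟩
  let a₀ := hW.fromSpec
  let κ := p.asIdeal.ResidueField
  have hch := exists_isChart P hW p
  choose R _ _ hRe ε O I hI hg hz using hch
  -- finitely many charts cover the fibre
  have : QuasiCompact q := inferInstance
  have : CompactSpace ↥(pullback q (aR a₀ κ)) :=
    QuasiCompact.compactSpace_of_compactSpace (pullback.snd q (aR a₀ κ))
  obtain ⟨t, ht⟩ := isCompact_univ.elim_finite_subcover
    (fun z => (Vanish28.bc q a₀ (CommRingCat.ofHom (ε z).toRingHom) (aR a₀ κ) (hg z)) ⁻¹'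
      (O z : Set ↥(pullback q (aR a₀ (R z)))))
    (fun z => (O z).isOpen.preimage (Scheme.Hom.continuous _))
    (fun z _ => Set.mem_iUnion.2 ⟨z, hz z⟩)
  obtain ⟨R₁, _, _, hR₁, ε₁, hπ⟩ : ∃ (R₁ : Type u) (_ : CommRing R₁) (_ : Algebra Γ(S, W) R₁)
      (_ : Algebra.Etale Γ(S, W) R₁) (ε₁ : R₁ →ₐ[Γ(S, W)] κ),
      ∀ z ∈ t, ∃ π : R z →ₐ[Γ(S, W)] R₁, ε₁.comp π = ε z := by
    clear ht
    induction t using Finset.induction_on with
    | empty => exact ⟨Γ(S, W), inferInstance, inferInstance, inferInstance, Algebra.ofId _ _, by simp⟩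
    | insert z t _ ih =>
      obtain ⟨R₁, _, _, hR₁, ε₁, hπ⟩ := ih
      have := hRe z
      have : Algebra.Etale Γ(S, W) (R₁ ⊗[Γ(S, W)] R z) :=
        Algebra.Etale.comp Γ(S, W) R₁ (R₁ ⊗[Γ(S, W)] R z)
      refine ⟨R₁ ⊗[Γ(S, W)] R z, inferInstance, inferInstance, inferInstance,
        Algebra.TensorProduct.lift ε₁ (ε z) (fun _ _ => Commute.all _ _), fun z' hz' => ?_⟩
      rcases Finset.mem_insert.1 hz' with rfl | hz'
      · exact ⟨Algebra.TensorProduct.includeRight, AlgHom.ext fun x => by simp⟩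
      · obtain ⟨π, hπ'⟩ := hπ z' hz'
        exact ⟨Algebra.TensorProduct.includeLeft.comp π, AlgHom.ext fun x => by
          simpa using AlgHom.congr_fun hπ' x⟩
  choose π hπ using hπ
  have haR : ∀ {R R' : Type u} [CommRing R] [CommRing R'] [Algebra Γ(S, W) R] [Algebra Γ(S, W) R']
      (h : R →ₐ[Γ(S, W)] R'), Spec.map (CommRingCat.ofHom h.toRingHom) ≫ aR a₀ R = aR a₀ R' := by
    intro R R' _ _ _ _ h
    rw [← Spec.map_comp_assoc, ← CommRingCat.ofHom_comp]
    exact congrArg (fun t => Spec.map (CommRingCat.ofHom t) ≫ a₀) h.comp_algebraMap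
  let γ := fun (z) (hz : z ∈ t) =>
    Vanish28.bc q a₀ (CommRingCat.ofHom (π z hz).toRingHom) (aR a₀ R₁) (haR (π z hz))
  let U : Set ↥(pullback q (aR a₀ R₁)) := ⋃ z, ⋃ hz : z ∈ t, γ z hz ⁻¹' (O z : Set ↥(pullback q (aR a₀ (R z))))
  have hU : IsOpen U := isOpen_iUnion fun z => isOpen_iUnion fun hz =>
    (O z).isOpen.preimage (Scheme.Hom.continuous _)
  have : IsProper (pullback.snd q (aR a₀ R₁)) := inferInstance
  have hcl : IsClosed (pullback.snd q (aR a₀ R₁) '' Uᶜ) :=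
    (pullback.snd q (aR a₀ R₁)).isClosedMap _ hU.isClosed_compl
  let v := Vanish28.bc q a₀ (CommRingCat.ofHom ε₁.toRingHom) (aR a₀ κ) (haR ε₁)
  let p₁ : Spec (CommRingCat.of R₁) :=
    Spec.map (CommRingCat.ofHom ε₁.toRingHom) (⊥ : PrimeSpectrum κ)
  have hp₁ : p₁ ∉ pullback.snd q (aR a₀ R₁) '' Uᶜ := by
    rintro ⟨x, hxU, hx⟩
    have hv : IsPullback v (pullback.snd q (aR a₀ κ)) (pullback.snd q (aR a₀ R₁))
        (Spec.map (CommRingCat.ofHom ε₁.toRingHom)) := by
      refine IsPullback.of_right ?_ (pullback.lift_snd _ _ _) (IsPullback.of_hasPullback q (aR a₀ R₁))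
      rw [pullback.lift_fst, haR ε₁]
      exact IsPullback.of_hasPullback q (aR a₀ κ)
    obtain ⟨w, hw, -⟩ := Scheme.Pullback.exists_preimage_pullback
      (f := pullback.snd q (aR a₀ R₁)) (g := Spec.map (CommRingCat.ofHom ε₁.toRingHom)) x
      ((⊥ : PrimeSpectrum κ) : Spec (CommRingCat.of κ)) hx
    let w' := hv.isoPullback.inv w
    have hw' : v w' = x := by
      rw [← Scheme.Hom.comp_apply, IsPullback.isoPullback_inv_fst]; exact hw
    obtain ⟨z, hzt, hzw⟩ := Set.mem_iUnion₂.1 (ht (Set.mem_univ w'))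
    refine hxU (Set.mem_iUnion₂.2 ⟨z, hzt, ?_⟩)
    rw [← hw', Set.mem_preimage, ← Scheme.Hom.comp_apply, Vanish28.bc_comp q a₀ _ _ _ _ _ (by
      rw [Spec.map_comp, Category.assoc, haR, haR])]
    have : CommRingCat.ofHom (π z hzt).toRingHom ≫ CommRingCat.ofHom ε₁.toRingHom =
        CommRingCat.ofHom (ε z).toRingHom := by
      rw [← hπ z hzt]; rfl
    simp only [this]
    exact hzw
  obtain ⟨_, ⟨f, rfl⟩, hf, hfU⟩ := PrimeSpectrum.isTopologicalBasis_basic_opens.exists_subset_of_mem_open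
    hp₁ hcl.isOpen_compl
  let R₂ := Localization.Away f
  let π₂ : R₁ →ₐ[Γ(S, W)] R₂ := IsScalarTower.toAlgHom Γ(S, W) R₁ R₂
  have : Algebra.Etale Γ(S, W) R₂ := by
    have : Algebra.Etale R₁ R₂ := Algebra.Etale.of_isLocalizationAway f
    exact Algebra.Etale.comp Γ(S, W) R₁ R₂
  refine ⟨CommRingCat.of R₂, aR a₀ R₂,
    ⨆ z, ⨆ hz : z ∈ t, (I z).map (π₂.comp (π z hz)).toRingHom, ?_, ?_, fun C ψ => ?_⟩
  · have : Etale (Spec.map (CommRingCat.ofHom (algebraMap Γ(S, W) R₂))) :=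
      (HasRingHomProperty.Spec_iff (P := @Etale)).2 (RingHom.etale_algebraMap.2 inferInstance)
    infer_instance
  · obtain ⟨p₂, hp₂⟩ : p₁ ∈ Set.range (PrimeSpectrum.comap (algebraMap R₁ R₂)) :=
      (PrimeSpectrum.localization_away_comap_range R₂ f).ge hf
    refine ⟨p₂, ?_⟩
    rw [← haR π₂, Scheme.Hom.comp_apply, show Spec.map (CommRingCat.ofHom π₂.toRingHom) p₂ = p₁ from hp₂,
      show p₁ = Spec.map (CommRingCat.ofHom ε₁.toRingHom) (⊥ : PrimeSpectrum κ) from rfl,
      ← Scheme.Hom.comp_apply, haR ε₁, Scheme.Hom.comp_apply]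
    exact (congrArg a₀ (comap_residueField p.asIdeal _)).trans (hW.fromSpec_primeIdealOf _)
  let g := Spec.map ψ ≫ aR a₀ R₂
  have hgz : ∀ z (hz : z ∈ t),
      Spec.map (CommRingCat.ofHom (π₂.comp (π z hz)).toRingHom ≫ ψ) ≫ aR a₀ (R z) = g := fun z hz => by
    rw [Spec.map_comp, Category.assoc, haR]
  choose Z d hd hrange hiff using fun (z : t) => hI z.1 C _ g (hgz z.1 z.2)
  have hmain : PE P (Spec C) g ↔ ∀ z : t,
      P.E _ (d z ≫ pullback.fst q g) := by
    refine ⟨fun h z => P.comp _ _ (d z) _ h, fun h => ?_⟩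
    refine P.desc _ g _ Z d hd (fun x => ?_) h
    have h₁ : Spec.map (CommRingCat.ofHom π₂.toRingHom ≫ ψ) ≫ aR a₀ R₁ = g := by
      rw [Spec.map_comp, Category.assoc, haR]
    let x₁ := Vanish28.bc q a₀ (CommRingCat.ofHom π₂.toRingHom ≫ ψ) g h₁ x
    have hsnd : pullback.snd q (aR a₀ R₁) x₁ ∈
        (PrimeSpectrum.basicOpen f : Set (PrimeSpectrum R₁)) := by
      rw [← Scheme.Hom.comp_apply, pullback.lift_snd, Spec.map_comp, Scheme.Hom.comp_apply,
        Scheme.Hom.comp_apply]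
      exact (PrimeSpectrum.localization_away_comap_range R₂ f).le ⟨_, rfl⟩
    have hx₁ : x₁ ∈ U := by
      by_contra hn
      exact hfU hsnd ⟨x₁, hn, rfl⟩
    obtain ⟨z, hzt, hzx⟩ := Set.mem_iUnion₂.1 hx₁
    rw [Set.mem_preimage, ← Scheme.Hom.comp_apply,
      Vanish28.bc_comp q a₀ _ _ _ _ _ (by simp only [Spec.map_comp, Category.assoc, haR]; rfl)] at hzx
    obtain ⟨w, hw⟩ := (hrange ⟨z, hzt⟩).ge hzx
    exact ⟨⟨z, hzt⟩, w, hw⟩
  refine hmain.trans ?_
  simp only [iSup_le_iff, Ideal.map_le_iff_le_comap, RingHom.comap_ker]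
  exact ⟨fun h z hz => (hiff ⟨z, hz⟩).1 (h ⟨z, hz⟩), fun h z => (hiff z).2 (h z.1 z.2)⟩

/-- The vanishing functor is a closed subscheme. -/
theorem exists_closedImmersion [IsProper q] [LocallyOfFinitePresentation q] :
    ∃ (Z : Scheme.{u}) (i : Z ⟶ S), IsClosedImmersion i ∧
      ∀ (T : Scheme.{u}) (g : T ⟶ S), PE P T g ↔ ∃ h, h ≫ i = g := by
  have hloc : ∀ (T : Scheme.{u}) (x : T ⟶ S) (𝒱 : Scheme.OpenCover.{u} T),
      (∀ i, PE P _ (𝒱.f i ≫ x)) → PE P T x := fun T x 𝒱 h =>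
    pe_flat_cover P x _ 𝒱.f (fun y => 𝒱.exists_eq y) h
  choose R b J hb hs hJ using exists_etale_ideal P
  let O : S → S.Opens := fun s => ⟨Set.range (b s), by
    have := hb s
    exact (b s).isOpenMap.isOpen_range⟩
  refine Misc15.ClosedLocal.exists_closedImmersion S (PE P) (pe_comp P) hloc O
    (.mk (top_le_iff.1 fun s _ => Opens.mem_iSup.2 ⟨s, hs s⟩)) fun s => ?_
  have := hb s
  let f : Spec (R s) ⟶ (O s).toScheme := IsOpenImmersion.lift (O s).ι (b s)
    (by rw [Scheme.Opens.range_ι]; exact subset_rfl)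
  have hfb : f ≫ (O s).ι = b s := IsOpenImmersion.lift_fac _ _ _
  have : Etale f := by
    refine MorphismProperty.of_postcomp (W := @Etale) (W' := @Etale) f (O s).ι inferInstance ?_
    rw [hfb]
    exact hb s
  have : Surjective f := ⟨fun x => by
    obtain ⟨y, hy⟩ := x.2
    refine ⟨y, Subtype.ext ?_⟩
    rw [← hy, ← hfb]
    rfl⟩
  let mk : R s ⟶ CommRingCat.of (R s ⧸ J s) := CommRingCat.ofHom (Ideal.Quotient.mk (J s))
  have : IsClosedImmersion (Spec.map mk) :=
    IsClosedImmersion.spec_of_surjective _ Ideal.Quotient.mk_surjective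
  refine Misc15.ClosedDescent.exists_closedImmersion f (fun T x => PE P T (x ≫ (O s).ι))
    (fun T T' t x h => by rw [Category.assoc]; exact pe_comp P _ _ t _ h)
    (fun T x 𝒱 h => hloc T _ 𝒱 fun i => by simpa [Category.assoc] using h i)
    (fun T T' t _ _ _ x h => pe_flat_cover P _ (fun _ : PUnit.{u + 1} => T') (fun _ => t)
      (fun y => ⟨⟨⟩, t.surjective y⟩) (fun _ => by simpa [Category.assoc] using h))
    (Spec.map mk) fun T y => ?_
  rw [Category.assoc, hfb]
  have hmk : PE P _ (Spec.map mk ≫ b s) :=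
    (hJ s _ mk).2 fun a ha => Ideal.Quotient.eq_zero_iff_mem.2 ha
  refine ⟨fun h => ?_, ?_⟩
  · let 𝒱 := T.affineCover
    have hz : ∀ k, ∃ z, z ≫ Spec.map mk = 𝒱.f k ≫ y := fun k => by
      have h1 := pe_comp P _ _ (𝒱.f k) _ h
      rw [← Category.assoc, ← Spec.map_preimage (𝒱.f k ≫ y)] at h1
      refine ⟨Spec.map (CommRingCat.ofHom (Ideal.Quotient.lift (J s) (Spec.preimage (𝒱.f k ≫ y)).hom
        ((hJ s _ _).1 h1))), ?_⟩
      rw [← Spec.map_comp]
      exact (congrArg Spec.map (CommRingCat.hom_ext (Ideal.Quotient.lift_comp_mk _ _ _))).trans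
        (Spec.map_preimage _)
    choose z hz using hz
    refine ⟨𝒱.glueMorphisms z (fun k l => ?_), 𝒱.hom_ext _ _ fun k => ?_⟩
    · rw [← cancel_mono (Spec.map mk), Category.assoc, Category.assoc, hz, hz, pullback.condition_assoc]
    · rw [← Category.assoc, Scheme.Cover.ι_glueMorphisms, hz k]
  · rintro ⟨z, rfl⟩
    rw [Category.assoc]
    exact pe_comp P _ _ z _ hmk

end Groth.Agent.VanishAbs28
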