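import Groth.Agent.Vanish28.Chart

/-!
# Conditions on schemes over a proper family cut out locally by content ideals

Generalises the vanishing locus of a map of modules to any condition which is stable under composition, descends
along flat covers of base changes, and is locally given by the vanishing of elements of flat modules.
-/

set_option autoImplicit false
set_option backward.isDefEq.respectTransparency false

universe u

open CategoryTheory CategoryTheory.Limits AlgebraicGeometry Opposite TopologicalSpace TensorProduct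
open Groth.Agent Groth.Agent.Vanish28

namespace Groth.Agent.VanishAbs28

variable {Y S : Scheme.{u}} (q : Y ⟶ S)

/-- A morphism to the family which is flat over a base change. -/
def Good {Z : Scheme.{u}} (f : Z ⟶ Y) : Prop :=
  ∃ (T : Scheme.{u}) (g : T ⟶ S) (d : Z ⟶ pullback q g), Flat d ∧ d ≫ pullback.fst q g = f

/-- A condition locally given by vanishing of elements in flat finitely presented modules. -/
structure VanPred where
  E : ∀ Z : Scheme.{u}, (Z ⟶ Y) → Prop
  comp : ∀ (Z Z' : Scheme.{u}) (h : Z' ⟶ Z) (f : Z ⟶ Y), E Z f → E Z' (h ≫ f)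
  desc : ∀ (T : Scheme.{u}) (g : T ⟶ S) (ι : Type u) (Z : ι → Scheme.{u})
    (c : ∀ i, Z i ⟶ pullback q g), (∀ i, Flat (c i)) → (∀ x, ∃ (i : ι) (z : Z i), c i z = x) →
    (∀ i, E (Z i) (c i ≫ pullback.fst q g)) → E _ (pullback.fst q g)
  loc : ∀ (W : S.Opens) (_ : IsAffineOpen W) (y : Y), q y ∈ W →
    ∃ (U : Y.Opens) (hU : IsAffineOpen U) (e : U ≤ q ⁻¹ᵁ W), y ∈ U ∧
      ∃ (M : Type u) (_ : AddCommGroup M) (_ : Module Γ(Y, U) M),
        Module.FinitePresentation Γ(Y, U) M ∧
        @Module.Flat Γ(S, W) M _ _ (Module.compHom M (q.appLE W U e).hom) ∧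
        ∃ E₀ : Set M, ∀ (C : CommRingCat.{u}) (φ : Γ(Y, U) ⟶ C),
          Good q (Spec.map φ ≫ hU.fromSpec) → (E _ (Spec.map φ ≫ hU.fromSpec) ↔
            letI := φ.hom.toAlgebra
            ∀ m ∈ E₀, (1 : C) ⊗ₜ[Γ(Y, U)] m = 0)

variable {q} (P : VanPred q) {A : CommRingCat.{u}} (a₀ : Spec A ⟶ S)
  {R : Type u} [CommRing R] [Algebra A R]

variable (R) in
/-- An open of the base change on which vanishing is cut out by an ideal, universally. -/
def IsChart (O : (pullback q (aR a₀ R)).Opens) (I : Ideal R) : Prop :=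
  ∀ (C : CommRingCat.{u}) (ψ : CommRingCat.of R ⟶ C) (g : Spec C ⟶ S)
    (hg : Spec.map ψ ≫ aR a₀ R = g),
    ∃ (Z : Scheme.{u}) (d : Z ⟶ pullback q g), Flat d ∧
      Set.range d = (bc q a₀ ψ g hg) ⁻¹' (O : Set ↥(pullback q (aR a₀ R))) ∧
      (P.E Z (d ≫ pullback.fst q g) ↔ I ≤ RingHom.ker ψ.hom)

/-- An etale affine scheme over the base change gives a chart. -/
theorem isChart_range {U : Y.Opens} (hU : IsAffineOpen U) (M : Type u) [AddCommGroup M] [Module Γ(Y, U) M]
    (E₀ : Set M) (hE₀ : ∀ (C : CommRingCat.{u}) (φ : Γ(Y, U) ⟶ C),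
      Good q (Spec.map φ ≫ hU.fromSpec) → (P.E _ (Spec.map φ ≫ hU.fromSpec) ↔
        letI := φ.hom.toAlgebra
        ∀ m ∈ E₀, (1 : C) ⊗ₜ[Γ(Y, U)] m = 0))
    (S' : Type u) [CommRing S'] [Algebra R S'] [Algebra Γ(Y, U) S']
    [Module.Projective R (S' ⊗[Γ(Y, U)] M)]
    (ℓ : Spec (CommRingCat.of S') ⟶ pullback q (aR a₀ R)) [Flat ℓ] [LocallyOfFinitePresentation ℓ]
    (hℓ₁ : ℓ ≫ pullback.fst q (aR a₀ R) =
      Spec.map (CommRingCat.ofHom (algebraMap Γ(Y, U) S')) ≫ hU.fromSpec)
    (hℓ₂ : ℓ ≫ pullback.snd q (aR a₀ R) = Spec.map (CommRingCat.ofHom (algebraMap R S'))) :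
    ∃ I : Ideal R, IsChart P a₀ R ⟨Set.range ℓ, ℓ.isOpenMap.isOpen_range⟩ I := by
  obtain ⟨I, hI⟩ := exists_ideal_of_projective (R := R) (B := Γ(Y, U)) (S' := S') M E₀
  refine ⟨I, fun C ψ g hg => ?_⟩
  let _ : Algebra R C := ψ.hom.toAlgebra
  let θ := CommRingCat.ofHom (algebraMap R S')
  let c := Spec.map (CommRingCat.ofHom (algebraMap Γ(Y, U) S')) ≫ hU.fromSpec
  let Z := pullback (Spec.map ψ) (Spec.map θ)
  have hc : c ≫ q = Spec.map θ ≫ aR a₀ R := by
    rw [show c = _ from hℓ₁.symm, show Spec.map θ = _ from hℓ₂.symm, Category.assoc, Category.assoc,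
      pullback.condition]
  let d : Z ⟶ pullback q g := pullback.lift (pullback.snd _ _ ≫ c) (pullback.fst _ _)
    (by rw [Category.assoc, hc, ← pullback.condition_assoc, hg])
  have hr : IsPullback (bc q a₀ ψ g hg) (pullback.snd q g) (pullback.snd q (aR a₀ R)) (Spec.map ψ) := by
    refine IsPullback.of_right ?_ (pullback.lift_snd _ _ _)
      (IsPullback.of_hasPullback q (aR a₀ R)).flip.flip
    rw [pullback.lift_fst, hg]
    exact IsPullback.of_hasPullback q g
  have hd : IsPullback d (pullback.snd (Spec.map ψ) (Spec.map θ)) (bc q a₀ ψ g hg) ℓ := by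
    refine IsPullback.of_right ?_ ?_ hr.flip
    · rw [show d ≫ pullback.snd q g = pullback.fst _ _ from pullback.lift_snd _ _ _, hℓ₂]
      exact IsPullback.of_hasPullback (Spec.map ψ) (Spec.map θ)
    · apply pullback.hom_ext
      · rw [Category.assoc, Category.assoc, pullback.lift_fst, pullback.lift_fst, hℓ₁]
      · rw [Category.assoc, Category.assoc, pullback.lift_snd, ← Category.assoc,
          pullback.lift_snd, hℓ₂, pullback.condition]
  refine ⟨Z, d, MorphismProperty.of_isPullback hd.flip inferInstance, ?_, ?_⟩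
  · rw [← hd.isoPullback_hom_fst, Scheme.Hom.comp_base, TopCat.coe_comp, Set.range_comp,
      Set.range_eq_univ.2 hd.isoPullback.hom.surjective, Set.image_univ, Scheme.Pullback.range_fst]
    rfl
  · let e : Z ≅ Spec (CommRingCat.of (C ⊗[R] S')) := pullbackSpecIso R C S'
    let _ : Algebra Γ(Y, U) (C ⊗[R] S') :=
      (Algebra.TensorProduct.includeRight.toRingHom.comp (algebraMap Γ(Y, U) S')).toAlgebra
    let φ : Γ(Y, U) ⟶ CommRingCat.of (C ⊗[R] S') := CommRingCat.ofHom (algebraMap Γ(Y, U) _)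
    have he : e.inv ≫ d ≫ pullback.fst q g = Spec.map φ ≫ hU.fromSpec := by
      rw [show d ≫ pullback.fst q g = pullback.snd _ _ ≫ c from pullback.lift_fst _ _ _,
        ← Category.assoc, show e.inv ≫ pullback.snd (Spec.map ψ) (Spec.map θ) = _ from
          pullbackSpecIso_inv_snd R C S', ← Category.assoc, ← Spec.map_comp]
      rfl
    refine Iff.trans ?_ ((hI C).trans Iff.rfl)
    have hgood : Good q (Spec.map φ ≫ hU.fromSpec) := by
      haveI : Flat d := MorphismProperty.of_isPullback hd.flip inferInstance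
      exact ⟨_, g, e.inv ≫ d, inferInstance, by rw [Category.assoc, he]⟩
    refine Iff.trans ?_ (hE₀ _ φ hgood)
    rw [← he]
    exact ⟨P.comp _ _ e.inv _, fun h => by
      have := P.comp _ _ e.hom _ h
      rwa [Iso.hom_inv_id_assoc] at this⟩

/-- Charts exist at every point of a fibre. -/
theorem exists_isChart [LocallyOfFinitePresentation q]
    {W : S.Opens} (hW : IsAffineOpen W)
    (p : PrimeSpectrum Γ(S, W))
    (z : ↥(pullback q (aR hW.fromSpec p.asIdeal.ResidueField))) :
    ∃ (R : Type u) (_ : CommRing R) (_ : Algebra Γ(S, W) R) (_ : Algebra.Etale Γ(S, W) R)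
      (ε : R →ₐ[Γ(S, W)] p.asIdeal.ResidueField)
      (O : (pullback q (aR hW.fromSpec R)).Opens) (I : Ideal R),
      IsChart P hW.fromSpec R O I ∧ ∃ hg, bc q hW.fromSpec (R := R)
        (CommRingCat.ofHom ε.toRingHom) (aR hW.fromSpec p.asIdeal.ResidueField) hg z ∈ O := by
  let κ := p.asIdeal.ResidueField
  let a₀ := hW.fromSpec
  let y := pullback.fst q (aR a₀ κ) z
  have hy : q y = a₀ p := by
    show q (pullback.fst q (aR a₀ κ) z) = _
    rw [← Scheme.Hom.comp_apply, pullback.condition, Scheme.Hom.comp_apply, Scheme.Hom.comp_apply]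
    refine congrArg a₀ ?_
    exact comap_residueField p.asIdeal _
  have hyW : y ∈ q ⁻¹ᵁ W := by
    show q y ∈ W
    rw [hy, ← SetLike.mem_coe, ← hW.range_fromSpec]
    exact ⟨_, rfl⟩
  obtain ⟨U, hU, e, hyU, M, _, _, hMfp, hMfl, E₀, hE₀⟩ := P.loc W hW y hyW
  let φ := q.appLE W U e
  let _ : Algebra Γ(S, W) Γ(Y, U) := φ.hom.toAlgebra
  have : Algebra.FinitePresentation Γ(S, W) Γ(Y, U) := q.finitePresentation_appLE hW hU e
  let _ : Module Γ(S, W) M := Module.compHom M φ.hom
  have : IsScalarTower Γ(S, W) Γ(Y, U) M := IsScalarTower.of_algebraMap_smul fun _ _ => rfl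
  have : Module.Flat Γ(S, W) M := hMfl
  let qq := (hU.primeIdealOf ⟨y, hyU⟩).asIdeal
  have hover : qq.LiesOver p.asIdeal := ⟨by
    have h := EGA43.InjFibre.comap_primeIdealOf q hW hU e hyU
    have hp : hW.primeIdealOf ⟨q y, e hyU⟩ = p := hW.fromSpec.isOpenEmbedding.injective
      ((hW.fromSpec_primeIdealOf _).trans hy)
    exact (congrArg PrimeSpectrum.asIdeal (h.trans hp)).symm⟩
  obtain ⟨R, S', _, _, _, _, _, _, _, _, p', q', _, _, hR, hS, ho, hproj⟩ :=
    FlatMorDevissage.exists_projective_nhd (R := Γ(S, W)) (S := Γ(Y, U)) M p.asIdeal qq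
      (FlatMorDevissage.flatAt_of_flat M qq)
  obtain ⟨hRe, hRo, hRb⟩ := id hR
  obtain ⟨hSe, hSo, hSb⟩ := id hS
  let c := Spec.map (CommRingCat.ofHom (algebraMap Γ(Y, U) S')) ≫ hU.fromSpec
  have hA : (algebraMap R S').comp (algebraMap Γ(S, W) R) =
      (algebraMap Γ(Y, U) S').comp φ.hom := by
    rw [← IsScalarTower.algebraMap_eq Γ(S, W) R S', IsScalarTower.algebraMap_eq Γ(S, W) Γ(Y, U) S']
    rfl
  have w : c ≫ q = Spec.map (CommRingCat.ofHom (algebraMap R S')) ≫ aR a₀ R := by
    rw [Category.assoc, ← hW.SpecMap_appLE_fromSpec q hU e, ← Spec.map_comp_assoc,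
      ← Spec.map_comp_assoc, ← CommRingCat.ofHom_comp, hA]
    rfl
  let ℓ := pullback.lift c (Spec.map (CommRingCat.ofHom (algebraMap R S'))) w
  have hce : Etale c := by
    have : Etale (Spec.map (CommRingCat.ofHom (algebraMap Γ(Y, U) S'))) :=
      (HasRingHomProperty.Spec_iff (P := @Etale)).2 (RingHom.etale_algebraMap.2 hSe)
    infer_instance
  have : Etale (aR a₀ R) := by
    have : Etale (Spec.map (CommRingCat.ofHom (algebraMap Γ(S, W) R))) :=
      (HasRingHomProperty.Spec_iff (P := @Etale)).2 (RingHom.etale_algebraMap.2 hRe)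
    infer_instance
  have : Etale ℓ := by
    refine MorphismProperty.of_postcomp (W := @Etale) (W' := @Etale) ℓ (pullback.fst q (aR a₀ R))
      inferInstance ?_
    rw [pullback.lift_fst]
    exact hce
  obtain ⟨I, hI⟩ := isChart_range P a₀ hU M E₀ hE₀ S' ℓ (pullback.lift_fst _ _ _) (pullback.lift_snd _ _ _)
  -- the map to the residue field
  let m := Ideal.ResidueField.mapₐ p.asIdeal p' (Algebra.ofId Γ(S, W) R) hRo.over
  let eκ : κ ≃ₐ[Γ(S, W)] p'.ResidueField := AlgEquiv.ofBijective m hRb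
  let ε : R →ₐ[Γ(S, W)] κ :=
    eκ.symm.toAlgHom.comp (IsScalarTower.toAlgHom Γ(S, W) R p'.ResidueField)
  have hg : Spec.map (CommRingCat.ofHom ε.toRingHom) ≫ aR a₀ R = aR a₀ κ := by
    rw [← Spec.map_comp_assoc, ← CommRingCat.ofHom_comp]
    exact congrArg (fun t => Spec.map (CommRingCat.ofHom t) ≫ a₀) ε.comp_algebraMap
  refine ⟨R, inferInstance, inferInstance, hRe, ε, _, I, hI, hg, ?_⟩
  let K := q'.ResidueField
  let m' := Ideal.ResidueField.mapₐ p' q' (Algebra.ofId R S') ho.over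
  let v : CommRingCat.of κ ⟶ CommRingCat.of K :=
    CommRingCat.ofHom (m'.toRingHom.comp eκ.toAlgHom.toRingHom)
  have hvε : CommRingCat.ofHom ε.toRingHom ≫ v =
      CommRingCat.ofHom (algebraMap R S') ≫ CommRingCat.ofHom (algebraMap S' K) := by
    refine CommRingCat.hom_ext (RingHom.ext fun r => ?_)
    show m' (eκ (eκ.symm (algebraMap R p'.ResidueField r))) = algebraMap S' K (algebraMap R S' r)
    rw [AlgEquiv.apply_symm_apply, m'.commutes]
    exact IsScalarTower.algebraMap_apply R S' K r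
  have hvA : (Spec.map (CommRingCat.ofHom (algebraMap S' K)) ≫ c) ≫ q = Spec.map v ≫ aR a₀ κ := by
    rw [← hg, ← Category.assoc (Spec.map v), ← Spec.map_comp, hvε, Spec.map_comp, Category.assoc, w,
      Category.assoc]
  let zK : Spec (CommRingCat.of K) ⟶ pullback q (aR a₀ κ) := pullback.lift _ (Spec.map v) hvA
  let k₀ : Spec (CommRingCat.of K) := (⊥ : PrimeSpectrum K)
  have hfib : zK ≫ bc q a₀ (CommRingCat.ofHom ε.toRingHom) (aR a₀ κ) hg =
      Spec.map (CommRingCat.ofHom (algebraMap S' K)) ≫ ℓ := by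
    apply pullback.hom_ext
    · rw [Category.assoc, Category.assoc, pullback.lift_fst, pullback.lift_fst, pullback.lift_fst]
    · rw [Category.assoc, Category.assoc, pullback.lift_snd, pullback.lift_snd, ← Category.assoc,
        pullback.lift_snd, ← Spec.map_comp, ← Spec.map_comp, hvε]
  have hk₀ : pullback.fst q (aR a₀ κ) (zK k₀) = y := by
    rw [← Scheme.Hom.comp_apply, pullback.lift_fst, Scheme.Hom.comp_apply, Scheme.Hom.comp_apply]
    refine (congrArg hU.fromSpec ?_).trans (hU.fromSpec_primeIdealOf ⟨y, hyU⟩)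
    refine PrimeSpectrum.ext ?_
    show Ideal.comap (algebraMap Γ(Y, U) S') (Ideal.comap (algebraMap S' K) _) = qq
    rw [hSo.over]
    refine congrArg (Ideal.comap (algebraMap Γ(Y, U) S')) ?_
    exact congrArg PrimeSpectrum.asIdeal (comap_residueField q' k₀)
  have : IsPreimmersion (Spec.map (CommRingCat.ofHom (algebraMap Γ(S, W) κ))) :=
    IsPreimmersion.mk_SpecMap (Topology.IsEmbedding.of_subsingleton _)
      p.asIdeal.surjectiveOnStalks_residueField
  have : IsPreimmersion (pullback.fst q (aR a₀ κ)) :=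
    MorphismProperty.pullback_fst _ _ inferInstance
  have hz : zK k₀ = z := (pullback.fst q (aR a₀ κ)).isEmbedding.injective hk₀
  rw [← hz]
  show bc q a₀ (CommRingCat.ofHom ε.toRingHom) (aR a₀ κ) hg (zK k₀) ∈ Set.range ℓ
  rw [← Scheme.Hom.comp_apply, hfib]
  exact ⟨_, rfl⟩

end Groth.Agent.VanishAbs28
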